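import Cfsg.Agent.Lib.PGroup.SpTwoIndex.Basic
import Cfsg.Agent.Lib.Perm.Trans.SympGen

/-!
The symplectic group over two elements permutes transitively the quadratic forms of minus type.
-/

set_option autoImplicit false
set_option linter.unusedSectionVars false

namespace CfsgLib.PGroup.SpTwoIndex

open Matrix CfsgLib.Sp

variable {m : ℕ} {F : Type*} [Field F] [Fintype F]

local notation "V" => (Fin m ⊕ Fin m → F)

/-- The standard form of plus type. -/
def qPlus (c : Fin m ⊕ Fin m → F) : F := ∑ i, c (.inl i) * c (.inr i)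

/-- The forms polarising to the symplectic form. -/
def qForm (c v : Fin m ⊕ Fin m → F) : F := qPlus v + sf c v

variable (hF : Fintype.card F = 2)
include hF

theorem qPlus_add (u v : V) : qPlus (u + v) = qPlus u + qPlus v + sf u v := by
  rw [sf_eq, qPlus, qPlus, qPlus, ← Finset.sum_add_distrib, ← Finset.sum_add_distrib]
  refine Finset.sum_congr rfl fun i _ => ?_
  simp only [Pi.add_apply]
  linear_combination add_self_eq hF (u (.inl i) * v (.inr i))

theorem qPlus_shift (c u : V) : qPlus (c + u) = qPlus c + qForm c u := by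
  rw [qPlus_add hF, qForm]; ring

theorem qForm_inj {c d : V} (h : qForm c = qForm d) : c = d := by
  have h0 : c + d = 0 := eq_zero_of_sf fun v => by
    have := congrFun h v
    rw [qForm, qForm, add_right_inj] at this
    rw [sf_add_left, this, add_self_eq hF]
  have := congrArg (· + d) h0
  simpa [add_assoc, vec_add_self hF] using this

theorem qForm_tr (c u : V) :
    (qForm c u = 1 → ∀ v, qForm c ((tr u).1 *ᵥ v) = qForm c v) ∧
      (qForm c u = 0 → ∀ v, qForm c ((tr u).1 *ᵥ v) = qForm (c + u) v) := by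
  have e : ∀ v, qForm c ((tr u).1 *ᵥ v) = qForm c v + sf v u * (qForm c u + 1) := by
    intro v
    rw [tr_apply]
    rcases eq_zero_or_one hF (sf v u) with h | h
    · rw [h, zero_smul, add_zero, zero_mul, add_zero]
    · rw [h, one_smul, one_mul, qForm, qForm, qForm, qPlus_add hF, sf_add_right, h]; ring
  constructor <;> intro h v <;> rw [e, h]
  · rw [add_self_eq hF, mul_zero, add_zero]
  · rw [zero_add, mul_one, qForm, qForm, sf_add_left, sf_comm hF v u, add_assoc]

/-- The number of forms of minus type. -/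
theorem card_minus [DecidableEq F] (hm : 1 ≤ m) :
    Nat.card {c : V // qPlus c = 1} = 2 ^ (m - 1) * (2 ^ m - 1) := by
  classical
  have hs : ∑ c : V, sgn F (qPlus c) = (2 : ℤ) ^ m := by
    have hu : (Finset.univ : Finset F) = {0, 1} :=
      ((Finset.eq_univ_iff_forall).2 fun a => by
        rcases eq_zero_or_one hF a with rfl | rfl <;> simp).symm
    have h2 : ∑ a : F, ∑ b : F, sgn F (a * b) = 2 := by
      simp [hu, sgn]
    let e : V ≃ (Fin m → F × F) :=
      (Equiv.sumArrowEquivProdArrow (Fin m) (Fin m) F).trans (Equiv.arrowProdEquivProdArrow (Fin m) (fun _ => F) (fun _ => F)).symm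
    calc ∑ c : V, sgn F (qPlus c)
        = ∑ p : Fin m → F × F, ∏ i, sgn F ((p i).1 * (p i).2) :=
          Fintype.sum_equiv e _ _ fun c => by rw [qPlus, sgn_sum hF]; rfl
      _ = ∏ _i : Fin m, ∑ q : F × F, sgn F (q.1 * q.2) :=
          (Fintype.prod_sum fun (_ : Fin m) (q : F × F) => sgn F (q.1 * q.2)).symm
      _ = 2 ^ m := by simp [Fintype.sum_prod_type, h2]
  rw [sum_sgn, Fintype.card_fun, hF, Fintype.card_sum, Fintype.card_fin] at hs
  push_cast at hs
  have htot := Finset.card_filter_add_card_filter_not (s := (Finset.univ : Finset V)) fun c => qPlus c = 0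
  have hne : ∀ c : V, (¬ qPlus c = 0) ↔ qPlus c = 1 := fun c =>
    ⟨fun h => (eq_zero_or_one hF _).resolve_left h, fun h => by rw [h]; exact one_ne_zero⟩
  simp only [hne] at htot
  rw [Finset.card_univ, Fintype.card_fun, hF, Fintype.card_sum, Fintype.card_fin] at htot
  rw [Nat.card_eq_fintype_card, Fintype.card_subtype]
  have h2m : 2 ^ m = 2 * 2 ^ (m - 1) := by rw [← pow_succ', Nat.sub_add_cancel hm]
  have h1 : 1 ≤ 2 ^ m := Nat.one_le_two_pow
  rw [pow_add] at htot
  zify [h1] at htot h2m ⊢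
  rw [pow_add] at hs
  rw [h2m] at htot hs ⊢
  linarith

omit hF in
/-- The action on functions. -/
@[reducible] def fnAct : MulAction (Matrix.symplecticGroup (Fin m) F) (V → F) where
  smul g φ v := φ (g⁻¹.1 *ᵥ v)
  one_smul φ := funext fun v => by
    show φ ((1 : Matrix.symplecticGroup (Fin m) F)⁻¹.1 *ᵥ v) = φ v
    rw [inv_one, sp_one_mulVec]
  mul_smul g h φ := funext fun v => by
    show φ ((g * h)⁻¹.1 *ᵥ v) = φ (h⁻¹.1 *ᵥ (g⁻¹.1 *ᵥ v))
    rw [_root_.mul_inv_rev, sp_mul_mulVec]

attribute [local instance] fnAct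

/-- The stabiliser of a form of minus type. -/
theorem exists_index (hm : 1 ≤ m) : ∃ H : Subgroup (Matrix.symplecticGroup (Fin m) F),
    H.index = 2 ^ (m - 1) * (2 ^ m - 1) := by
  classical
  have hc := card_minus hF (m := m) hm
  haveI : Nonempty {c : V // qPlus c = 1} := by
    refine (Nat.card_pos_iff.1 ?_).1
    rw [hc]
    have : 1 < 2 ^ m := Nat.one_lt_two_pow (by omega)
    exact Nat.mul_pos (Nat.two_pow_pos _) (by omega)
  obtain ⟨c₀, hc₀⟩ := Classical.arbitrary {c : V // qPlus c = 1}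
  let S : Set (V → F) := {φ | ∃ c, qPlus c = 1 ∧ qForm c = φ}
  have hinv : ∀ u : V, (tr u)⁻¹ = tr u := fun u => inv_eq_of_mul_eq_one_left (tr_sq hF u)
  have htr : ∀ u c : V, qPlus c = 1 → tr u • qForm c ∈ S := by
    intro u c h
    have e : tr u • qForm c = fun v => qForm c ((tr u).1 *ᵥ v) := by
      show (fun v => qForm c ((tr u)⁻¹.1 *ᵥ v)) = _
      rw [hinv]
    rcases eq_zero_or_one hF (qForm c u) with h0 | h0
    · exact ⟨c + u, by rw [qPlus_shift hF, h, h0, add_zero], funext fun v => by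
        rw [e]; exact ((qForm_tr hF c u).2 h0 v).symm⟩
    · exact ⟨c, h, funext fun v => by rw [e]; exact ((qForm_tr hF c u).1 h0 v).symm⟩
  have hall : ∀ g : Matrix.symplecticGroup (Fin m) F, ∀ φ ∈ S, g • φ ∈ S := by
    intro g
    have hg : g ∈ Subgroup.closure (CfsgLib.Perm.Trans.Symp.tvSet m F) := by
      rw [CfsgLib.Perm.Trans.Symp.closure_tvSet]; trivial
    have hstep : ∀ (u : V) (k : F), ∀ φ ∈ S, tv u k • φ ∈ S := by
      intro u k φ hφ
      rcases eq_zero_or_one hF k with rfl | rfl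
      · rwa [tv_zero, one_smul]
      · obtain ⟨c, h, rfl⟩ := hφ; exact htr u c h
    induction hg using Subgroup.closure_induction'' with
    | mem x hx =>
      obtain ⟨w, k, hx⟩ := hx
      rw [show x = tv w k from Subtype.ext hx]; exact hstep w k
    | inv_mem x hx =>
      obtain ⟨w, k, hx⟩ := hx
      rw [show x = tv w k from Subtype.ext hx]
      rcases eq_zero_or_one hF k with rfl | rfl
      · intro φ hφ; rwa [tv_zero, inv_one, one_smul]
      · rw [hinv]; exact hstep w 1
    | one => intro φ hφ; rwa [one_smul]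
    | mul x y _ _ h1 h2 => intro φ hφ; rw [mul_smul]; exact h1 _ (h2 φ hφ)
  have horb : MulAction.orbit (Matrix.symplecticGroup (Fin m) F) (qForm c₀) = S := by
    apply Set.Subset.antisymm
    · rintro _ ⟨g, rfl⟩; exact hall g _ ⟨c₀, hc₀, rfl⟩
    · rintro _ ⟨c, h, rfl⟩
      have h0 : qForm c₀ (c₀ + c) = 0 := by
        have := qPlus_shift hF c₀ (c₀ + c)
        rw [← add_assoc, vec_add_self hF, zero_add, h, hc₀] at this
        linear_combination -this
      refine ⟨tr (c₀ + c), funext fun v => ?_⟩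
      show qForm c₀ ((tr (c₀ + c))⁻¹.1 *ᵥ v) = _
      rw [hinv, (qForm_tr hF c₀ _).2 h0, ← add_assoc, vec_add_self hF, zero_add]
  refine ⟨MulAction.stabilizer (Matrix.symplecticGroup (Fin m) F) (qForm c₀), ?_⟩
  rw [MulAction.index_stabilizer, horb, ← hc]
  exact (Nat.card_congr (Equiv.ofBijective
    (fun c : {c : V // qPlus c = 1} => (⟨qForm c.1, c.1, c.2, rfl⟩ : S))
    ⟨fun a b h => Subtype.ext (qForm_inj hF (congrArg Subtype.val h)),
      fun ⟨_, c, h, he⟩ => ⟨⟨c, h⟩, Subtype.ext he⟩⟩)).symm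

end CfsgLib.PGroup.SpTwoIndex
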