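import Cfsg.Agent.Lib.Sp.Basic

/-!
The symplectic group over two elements: elements of the radical at a point and sums of signs.
-/

set_option autoImplicit false
set_option linter.unusedSectionVars false

namespace CfsgLib.PGroup.SpTwoIndex

open Matrix CfsgLib.Sp

variable {m : ℕ} {F : Type*} [Field F] [Fintype F]

local notation "V" => (Fin m ⊕ Fin m → F)

theorem eq_zero_or_one (hF : Fintype.card F = 2) (a : F) : a = 0 ∨ a = 1 := by
  classical
  by_contra h
  simp only [not_or] at h
  have := Finset.card_le_univ ({0, 1, a} : Finset F)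
  rw [Finset.card_eq_three.2 ⟨0, 1, a, zero_ne_one, Ne.symm h.1, Ne.symm h.2, rfl⟩, hF] at this
  omega

theorem add_self_eq (hF : Fintype.card F = 2) (a : F) : a + a = 0 := by
  have h2 : (1 : F) + 1 = 0 := by
    rcases eq_zero_or_one hF (1 + 1) with h | h
    · exact h
    · exact absurd (add_eq_left.1 h) one_ne_zero
  linear_combination a * h2

theorem sf_comm (hF : Fintype.card F = 2) (u v : V) : sf u v = sf v u := by
  rw [sf_swap u v]; linear_combination (-1 : F) * add_self_eq hF (sf v u)

theorem vec_add_self (hF : Fintype.card F = 2) (v : V) : v + v = 0 :=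
  funext fun i => add_self_eq hF (v i)

theorem scalar_cases (hF : Fintype.card F = 2) (c : F) (v : V) : c • v = 0 ∨ c • v = v := by
  rcases eq_zero_or_one hF c with rfl | rfl
  · exact Or.inl (zero_smul _ _)
  · exact Or.inr (one_smul _ _)

theorem sf_zero_left (v : V) : sf (0 : V) v = 0 := by
  rw [show (0 : V) = (0 : F) • (0 : V) by rw [zero_smul], sf_smul_left, zero_mul]

theorem sf_zero_right (v : V) : sf v (0 : V) = 0 := by rw [sf_swap, sf_zero_left, neg_zero]

/-- The transvection at a vector. -/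
abbrev tr (v : Fin m ⊕ Fin m → F) : Matrix.symplecticGroup (Fin m) F := tv v 1

theorem tr_apply (v x : V) : (tr v).1 *ᵥ x = x + sf x v • v := by rw [tv_mulVec, one_mul]

theorem tr_zero : tr (0 : V) = 1 := sp_ext_vec fun x => by simp [tr_apply]

theorem tr_sq (hF : Fintype.card F = 2) (v : V) : tr v * tr v = 1 := by
  rw [tv_mul, add_self_eq hF, tv_zero]

/-- The element of the radical with parameter `a`. -/
def el (z a : Fin m ⊕ Fin m → F) : Matrix.symplecticGroup (Fin m) F := tr (z + a) * (tr a * tr z)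

theorem el_apply (hF : Fintype.card F = 2) {z a : V} (h : sf a z = 0) (x : V) :
    (el z a).1 *ᵥ x = x + sf x z • a + sf x a • z := by
  have h' : sf z a = 0 := by rw [sf_comm hF, h]
  simp only [el, sp_mul_mulVec, tr_apply, sf_add_left, sf_add_right, sf_smul_left, sf_self, h, h',
    mul_zero, add_zero, smul_add]
  match_scalars
  all_goals first
    | linear_combination add_self_eq hF (sf x z)
    | linear_combination add_self_eq hF (sf x a)
    | ring

theorem el_mul (hF : Fintype.card F = 2) {z a b : V} (ha : sf a z = 0) (hb : sf b z = 0) :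
    el z a * el z b = el z (a + b) * tv z (sf b a) := by
  refine sp_ext_vec fun x => ?_
  have hab : sf (a + b) z = 0 := by rw [sf_add_left, ha, hb, add_zero]
  have hza : sf z a = 0 := by rw [sf_comm hF, ha]
  have hzb : sf z b = 0 := by rw [sf_comm hF, hb]
  simp only [sp_mul_mulVec, el_apply hF ha, el_apply hF hb, el_apply hF hab, tv_mulVec, sf_add_left,
    sf_add_right, sf_smul_left, sf_self, ha, hb, hza, hzb, mul_zero, add_zero, zero_add]
  module

theorem el_conj (g : Matrix.symplecticGroup (Fin m) F) (z a : V) :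
    g * el z a * g⁻¹ = el (g.1 *ᵥ z) (g.1 *ᵥ a) := by
  rw [el, el, show g * (tr (z + a) * (tr a * tr z)) * g⁻¹ =
    (g * tr (z + a) * g⁻¹) * ((g * tr a * g⁻¹) * (g * tr z * g⁻¹)) by group, tv_conj, tv_conj,
    tv_conj, Matrix.mulVec_add]

theorem el_zero (hF : Fintype.card F = 2) (z : V) : el z (0 : V) = 1 := by
  rw [el, add_zero, tr_zero, one_mul, tr_sq hF]

theorem el_comm_arg {z a : V} (ha : sf a z = 0) : el z a = el a z := by
  rw [el, el, add_comm z a, (tv_commute ha 1 1).eq]

theorem el_comm_tv (hF : Fintype.card F = 2) {z a : V} (ha : sf a z = 0) (c : F) :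
    Commute (el z a) (tv z c) := by
  rw [el]
  exact (tv_commute (by rw [sf_add_left, sf_self, ha, add_zero]) 1 c).mul_left
    ((tv_commute ha 1 c).mul_left (tv_commute (sf_self z) 1 c))

theorem el_add_self (hF : Fintype.card F = 2) {z a : V} (ha : sf a z = 0) : el z (a + z) = el z a := by
  rw [el, el, show z + (a + z) = a by rw [add_left_comm, vec_add_self hF, add_zero], add_comm a z,
    ← mul_assoc, ← mul_assoc, (tv_commute (w := z + a) (v := a) (by
      rw [sf_add_right, sf_self, ha, zero_add]) 1 1).eq]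

/-- The sign of a scalar. -/
def sgn (F : Type*) [Field F] [DecidableEq F] (c : F) : ℤ := if c = 0 then 1 else -1

variable [DecidableEq F]

theorem sgn_add (hF : Fintype.card F = 2) (a b : F) : sgn F (a + b) = sgn F a * sgn F b := by
  rcases eq_zero_or_one hF a with rfl | rfl <;> rcases eq_zero_or_one hF b with rfl | rfl <;>
    simp [sgn, add_self_eq hF]

theorem sgn_sum (hF : Fintype.card F = 2) {κ : Type*} (s : Finset κ) (g : κ → F) :
    sgn F (∑ i ∈ s, g i) = ∏ i ∈ s, sgn F (g i) := by
  classical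
  induction s using Finset.induction_on with
  | empty => simp [sgn]
  | insert i s hi ih => rw [Finset.sum_insert hi, Finset.prod_insert hi, sgn_add hF, ih]

theorem sum_sgn_cancel (hF : Fintype.card F = 2) {κ : Type*} [AddCommGroup κ] [Fintype κ] (ℓ : κ →+ F)
    (h : ∃ u, ℓ u ≠ 0) : ∑ u, sgn F (ℓ u) = 0 := by
  obtain ⟨u₀, hu₀⟩ := h
  have h1 : ∑ u, sgn F (ℓ (u + u₀)) = ∑ u, sgn F (ℓ u) :=
    Fintype.sum_equiv (Equiv.addRight u₀) _ _ fun u => rfl
  have h2 : sgn F (ℓ u₀) = -1 := if_neg hu₀
  simp only [map_add, sgn_add hF, h2, mul_neg, mul_one, Finset.sum_neg_distrib] at h1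
  omega

/-- The hom `v ↦ sf u v` on a subspace. -/
def sfHom (U : Submodule F (Fin m ⊕ Fin m → F)) (u : Fin m ⊕ Fin m → F) : U →+ F where
  toFun v := sf v.1 u
  map_zero' := sf_zero_left u
  map_add' a b := sf_add_left a.1 b.1 u

/-- A subspace and its orthogonal in an enclosing non-degenerate subspace. -/
theorem card_mul_card_orth (hF : Fintype.card F = 2) (U W : Submodule F V) (hUW : U ≤ W)
    (hW : ∀ u ∈ W, u ≠ 0 → ∃ v ∈ W, sf v u ≠ 0) :
    Nat.card {v : W // ∀ u ∈ U, sf u v.1 = 0} * Nat.card U = Nat.card W := by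
  classical
  haveI : Fintype U := Fintype.ofFinite _
  haveI : Fintype W := Fintype.ofFinite _
  have key : ∑ v : W, ∑ u : U, sgn F (sf u.1 v.1) = ∑ u : U, ∑ v : W, sgn F (sf u.1 v.1) :=
    Finset.sum_comm
  have h1 : ∀ v : W, ∑ u : U, sgn F (sf u.1 v.1) =
      if ∀ u ∈ U, sf u v.1 = 0 then (Fintype.card U : ℤ) else 0 := by
    intro v
    split_ifs with h
    · simp [sgn, fun u : U => h u.1 u.2]
    · simp only [not_forall] at h
      obtain ⟨u, hu, hne⟩ := h
      exact sum_sgn_cancel hF (sfHom U v.1) ⟨⟨u, hu⟩, hne⟩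
  have h2 : ∀ u : U, ∑ v : W, sgn F (sf u.1 v.1) = if u = 0 then (Fintype.card W : ℤ) else 0 := by
    intro u
    split_ifs with h
    · subst h; simp [sgn, sf_zero_left]
    · simp only [sf_comm hF u.1]
      obtain ⟨v, hv, hne⟩ := hW u.1 (hUW u.2) fun h0 => h (Subtype.ext h0)
      exact sum_sgn_cancel hF (sfHom W u.1) ⟨⟨v, hv⟩, hne⟩
  simp only [h1, h2, Finset.sum_ite, Finset.sum_const_zero, add_zero, Finset.sum_const, nsmul_eq_mul] at key
  rw [Finset.filter_eq' Finset.univ (0 : U), if_pos (Finset.mem_univ _), Finset.card_singleton,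
    Nat.cast_one, one_mul, ← Nat.cast_mul, Nat.cast_inj, ← Fintype.card_subtype] at key
  rw [Nat.card_eq_fintype_card, Nat.card_eq_fintype_card, Nat.card_eq_fintype_card, key]

/-- The square of the sum of the signs of a quadratic refinement of a non-degenerate subspace. -/
theorem gauss_sq (hF : Fintype.card F = 2) (W : Submodule F V) [Fintype W] (φ : W → F)
    (hφ : ∀ a b : W, φ (a + b) = φ a + φ b + sf a.1 b.1)
    (hW : ∀ u ∈ W, u ≠ 0 → ∃ v ∈ W, sf v u ≠ 0) :
    (∑ a, sgn F (φ a)) ^ 2 = (Fintype.card W : ℤ) := by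
  classical
  have h0 : φ 0 = 0 := by
    have h := hφ 0 0
    rw [add_zero, Submodule.coe_zero, sf_zero_left, add_zero] at h
    linear_combination (-1 : F) * h
  rw [pow_two, Finset.sum_mul_sum,
    show ∑ a : W, ∑ b : W, sgn F (φ a) * sgn F (φ b) = ∑ a : W, ∑ c : W, sgn F (φ c) * sgn F (sf a.1 c.1) from
      Finset.sum_congr rfl fun a _ => (Fintype.sum_equiv (Equiv.addLeft a)
        (fun c => sgn F (φ c) * sgn F (sf a.1 c.1)) (fun b => sgn F (φ a) * sgn F (φ b)) fun c => by
        show _ = sgn F (φ a) * sgn F (φ (a + c))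
        rw [hφ, ← sgn_add hF, ← sgn_add hF]
        congr 1
        linear_combination (-1 : F) * add_self_eq hF (φ a)).symm,
    Finset.sum_comm]
  simp only [← Finset.mul_sum]
  rw [Finset.sum_eq_single (0 : W)]
  · simp [h0, sgn, sf_zero_right]
  · intro c _ hc
    obtain ⟨v, hv, hne⟩ := hW c.1 c.2 fun h => hc (Subtype.ext h)
    show _ * ∑ a : W, sgn F (sfHom W c.1 a) = 0
    rw [sum_sgn_cancel hF (sfHom W c.1) ⟨⟨v, hv⟩, hne⟩, mul_zero]
  · simp

theorem sum_sgn {κ : Type*} [Fintype κ] (g : κ → F) :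
    ∑ a, sgn F (g a) = 2 * ((Finset.univ.filter fun a => g a = 0).card : ℤ) - Fintype.card κ := by
  classical
  simp only [sgn, Finset.sum_ite, Finset.sum_const, nsmul_eq_mul, mul_one, mul_neg]
  have := Finset.card_filter_add_card_filter_not (s := Finset.univ) fun a => g a = 0
  rw [Finset.card_univ] at this
  omega

end CfsgLib.PGroup.SpTwoIndex
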