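import Cfsg.Agent.Lib.PGroup.SpTwoIndex.Orbits

/-!
A symplectic group over two elements acts trivially on fewer points than there are quadratic
refinements of minus type.
-/

set_option autoImplicit false
set_option linter.unusedSectionVars false

namespace CfsgLib.PGroup.SpTwoIndex

open Matrix CfsgLib.Sp

variable {m : ℕ} {F : Type*} [Field F] [Fintype F] [DecidableEq F]

local notation "V" => (Fin m ⊕ Fin m → F)

variable (hF : Fintype.card F = 2)
variable {X : Type*} [MulAction (Matrix.symplecticGroup (Fin m) F) X]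

include hF

theorem tv_unique {z : V} {y : X} (hy : tr z • y ≠ y) {c d : F} (h : tv z c • y = tv z d • y) : c = d := by
  rcases eq_zero_or_one hF c with rfl | rfl <;> rcases eq_zero_or_one hF d with rfl | rfl
  · rfl
  · exact absurd (by rw [tv_zero, one_smul] at h; exact h.symm) hy
  · exact absurd (by rw [tv_zero, one_smul] at h; exact h) hy
  · rfl

/-- A moved pair kept by the whole radical gives many moved points. -/
theorem pair_bound [Fintype X] [DecidableEq X] {z f : V} (hzf : sf z f = 1) [Fintype (perp z f)] {y : X}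
    (hy : tr z • y ≠ y) (hall : ∀ a ∈ perp z f, a ∈ keep hF z f y) :
    ∃ φ : perp z f → F, (∀ a b : perp z f, φ (a + b) = φ a + φ b + sf a.1 b.1) ∧
      2 * (Finset.univ.filter fun a => φ a = 0).card ≤ (Finset.univ.filter fun x : X => tr z • x ≠ x).card := by
  classical
  have h1 : ∀ a : perp z f, ∃ c, el z a.1 • y = tv z c • y := fun a => ((mem_keep hF).1 (hall a.1 a.2)).2
  choose φ hφ using h1
  have hadd : ∀ a b : perp z f, φ (a + b) = φ a + φ b + sf a.1 b.1 := fun a b =>
    tv_unique hF hy ((hφ (a + b)).symm.trans (el_add_smul hF a.2.1 b.2.1 (hφ a) (hφ b)))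
  refine ⟨φ, hadd, ?_⟩
  have hsm : ∀ (c : F) (a : perp z f), φ (c • a) = c * φ a := fun c a => by
    rcases eq_zero_or_one hF c with rfl | rfl
    · rw [zero_smul, zero_mul]
      have := hadd 0 0
      rw [add_zero, Submodule.coe_zero, sf_zero_left, add_zero] at this
      linear_combination (-1 : F) * this
    · rw [one_smul, one_mul]
  have hfix : ∀ u : perp z f, (tr u.1).1 *ᵥ z = z ∧ (tr u.1).1 *ᵥ f = f := fun u => by
    constructor <;> rw [tr_apply, sf_comm hF]
    · rw [(mem_perp.1 u.2).1, zero_smul, add_zero]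
    · rw [(mem_perp.1 u.2).2, zero_smul, add_zero]
  have hcomm : ∀ (u : perp z f) (c : F), Commute (tr u.1) (tv z c) := fun u c => tv_commute u.2.1 1 c
  -- the form seen from a conjugate point
  have hconj : ∀ u : perp z f, φ u = 0 → ∀ a : perp z f,
      el z a.1 • tr u.1 • y = tv z (φ a + sf a.1 u.1) • tr u.1 • y := by
    intro u hu a
    have hval : (tr u.1).1 *ᵥ (a + sf a.1 u.1 • u).1 = a.1 := by
      rw [tr_apply, Submodule.coe_add, Submodule.coe_smul, sf_add_left, sf_smul_left, sf_self, mul_zero,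
        add_zero, add_assoc, vec_add_self hF, add_zero]
    have e := el_conj (tr u.1) z (a + sf a.1 u.1 • u).1
    rw [hval, (hfix u).1] at e
    rw [← e, smul_smul, inv_mul_cancel_right, mul_smul, hφ, hadd, hsm, hu, smul_smul, (hcomm u _).eq,
      mul_smul]
    congr 2
    rw [Submodule.coe_smul, sf_smul_right]
    rcases eq_zero_or_one hF (sf a.1 u.1) with h | h <;> rw [h] <;> ring
  have hmoved : ∀ u : perp z f, ∀ c : F, tr z • tv z c • tr u.1 • y ≠ tv z c • tr u.1 • y := by
    intro u c h
    rw [smul_smul, tv_mul, add_comm, ← tv_mul, mul_smul, smul_left_cancel_iff, smul_smul,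
      ← (hcomm u 1).eq, mul_smul, smul_left_cancel_iff] at h
    exact hy h
  have hc : ((Finset.univ.filter fun a => φ a = 0) ×ˢ (Finset.univ : Finset F)).card ≤
      (Finset.univ.filter fun x : X => tr z • x ≠ x).card := by
    refine Finset.card_le_card_of_injOn (fun p => tv z p.2 • tr p.1.1 • y) (fun p _ => by
      simpa using hmoved p.1 p.2) ?_
    rintro ⟨u, c⟩ hu ⟨u', c'⟩ hu' h
    simp only [Finset.mem_coe, Finset.mem_product, Finset.mem_filter, Finset.mem_univ, true_and,
      and_true] at hu hu'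
    dsimp only at h
    have hsf : ∀ a : perp z f, sf a.1 u.1 = sf a.1 u'.1 := fun a => by
      have e : ∀ (w : perp z f) (k : F), φ w = 0 →
          el z a.1 • tv z k • tr w.1 • y = tv z (φ a + sf a.1 w.1) • tv z k • tr w.1 • y := fun w k hw => by
        rw [smul_smul, (el_comm_tv hF (mem_perp.1 a.2).1 k).eq, mul_smul, hconj w hw a, smul_smul, tv_mul,
          add_comm, ← tv_mul, mul_smul]
      have e1 : el z a.1 • tv z c • tr u.1 • y = el z a.1 • tv z c' • tr u'.1 • y :=
        congrArg (fun p => el z a.1 • p) h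
      rw [e u c hu, e u' c' hu', h] at e1
      exact add_left_cancel (tv_unique hF (hmoved u' c') e1)
    have huu : u = u' := by
      by_contra hne
      have h0 : (u + u').1 ≠ 0 := fun h0 => hne (Subtype.ext (by
        have := congrArg (· + u'.1) h0
        simp only [Submodule.coe_add, zero_add, add_assoc, vec_add_self hF, add_zero] at this
        exact this))
      obtain ⟨v, hv, hv1⟩ := perp_nd hF hzf _ (u + u').2 h0
      exact hv1 (by rw [Submodule.coe_add, sf_add_right, hsf ⟨v, hv⟩, add_self_eq hF])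
    subst huu
    have hm : tr z • tr u.1 • y ≠ tr u.1 • y := by
      rw [smul_smul, ← (hcomm u 1).eq, mul_smul, Ne, smul_left_cancel_iff]
      exact hy
    rw [tv_unique hF hm h]
  rwa [Finset.card_product, Finset.card_univ, hF, mul_comm] at hc

/-- Few points force every transvection to be trivial. -/
theorem all_fix [Fintype X] (hm : 3 ≤ m) (hsmall : Fintype.card X < 2 ^ (m - 1) * (2 ^ m - 1))
    (z : V) (x : X) : tr z • x = x := by
  classical
  have hP : ∀ {z f : V}, sf z f = 1 → Nat.card (perp z f) = 2 ^ (m - 1) * 2 ^ (m - 1) := by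
    intro z f h
    have h1 := card_perp hF h
    rw [show 2 * m = (m - 1) + (m - 1) + 2 by omega, pow_add, pow_add] at h1
    omega
  have hpart : ∀ {z f : V}, sf z f = 1 → ∀ {a : V}, sf a z = 0 →
      a = proj z f a ∨ a = proj z f a + z := by
    intro z f h a ha
    simp only [proj, ha, zero_smul, add_zero]
    rcases eq_zero_or_one hF (sf a f) with h1 | h1 <;> rw [h1]
    · left; rw [zero_smul, add_zero]
    · right; rw [one_smul, add_assoc, vec_add_self hF, add_zero]
  have hpair : ∀ {z : V} {y : X}, tr z • y ≠ y → ∀ {a : V}, sf a z = 0 → ∃ c, el z a • y = tv z c • y := by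
    intro z y hy a ha
    have hz : z ≠ 0 := fun h => hy (by rw [h, tr_zero, one_smul])
    obtain ⟨f, hf⟩ := exists_sf_eq_one hz
    rw [sf_comm hF] at hf
    have hall : ∀ b ∈ perp z f, b ∈ keep hF z f y := by
      by_contra hcon
      simp only [not_forall] at hcon
      obtain ⟨b, hb, hnb⟩ := hcon
      have h1 := orbits_bound hF hf ⟨b, hb, hnb⟩ Finset.univ fun c _ d _ h => tv_unique hF hy h
      rw [Finset.card_univ, hF, hP hf] at h1
      have h2 := h1.trans (Finset.card_filter_le _ _)
      rw [Finset.card_univ] at h2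
      have h3 : 2 ^ (m - 1) * (2 ^ m - 1) ≤ 2 * (2 ^ (m - 1) * 2 ^ (m - 1)) := by
        rw [← Nat.mul_assoc 2, mul_comm 2 (2 ^ (m - 1)), Nat.mul_assoc, ← pow_succ',
          Nat.sub_add_cancel (by omega)]
        exact Nat.mul_le_mul_left _ (Nat.sub_le _ _)
      omega
    obtain ⟨-, hc⟩ := (mem_keep hF).1 (hall _ (proj_mem hF hf a))
    rcases hpart hf ha with h | h
    · rw [h]; exact hc
    · rw [h, el_add_self hF (proj_mem hF hf a).1]; exact hc
  by_contra hz0
  set y := x
  have hzne : z ≠ 0 := fun h => hz0 (by rw [h, tr_zero, one_smul])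
  obtain ⟨f, hf⟩ := exists_sf_eq_one hzne
  rw [sf_comm hF] at hf
  -- some fixed point is moved by the radical
  obtain ⟨z₁, f₁, hf₁, y₁, hy₁, hk₁⟩ : ∃ z₁ f₁ : V, sf z₁ f₁ = 1 ∧ ∃ y₁ : X, tr z₁ • y₁ = y₁ ∧
      ∃ a ∈ perp z₁ f₁, el z₁ a • y₁ ≠ y₁ := by
    by_contra hcon
    simp only [not_exists, not_and, not_not, ne_eq] at hcon
    have hfull : ∀ {u v : V}, u ≠ 0 → tr u • y = y → sf v u = 0 → el u v • y = y := by
      intro u v hu hy hv
      obtain ⟨g, hg⟩ := exists_sf_eq_one hu
      rw [sf_comm hF] at hg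
      have hc := hcon u g hg y hy _ (proj_mem hF hg v)
      rcases hpart hg hv with h | h
      · rw [h]; exact hc
      · rw [h, el_add_self hF (proj_mem hF hg v).1]; exact hc
    -- the fixing vectors are pairwise orthogonal
    have hcl : ∀ {w w' v : V}, w ≠ 0 → tr w • y = y → tr w' • y = y → sf w' w = 1 → sf v w = 1 →
        tr v • y = y := by
      intro w w' v hw hwy hw'y h1 hv
      have ha : sf (v + w') w = 0 := by rw [sf_add_left, hv, h1, add_self_eq hF]
      set g := tv w (sf w' v) * el w (v + w') with hg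
      have hgy : g • y = y := by
        rw [hg, mul_smul, hfull hw hwy ha]
        rcases eq_zero_or_one hF (sf w' v) with h | h <;> rw [h]
        · rw [tv_zero, one_smul]
        · exact hwy
      have hgw : g.1 *ᵥ w' = v := by
        rw [hg, sp_mul_mulVec, el_apply hF ha]
        have e : w' + sf w' w • (v + w') + sf w' (v + w') • w = v + sf w' v • w := by
          rw [h1, one_smul, sf_add_right, sf_self, add_zero, add_left_comm w' v, vec_add_self hF, add_zero]
        rw [e, tv_mulVec, sf_add_left, sf_smul_left, sf_self, mul_zero, add_zero, hv, mul_one, add_assoc,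
          vec_add_self hF, add_zero]
      show tv v 1 • y = y
      rw [← hgw, ← tv_conj g w' 1, mul_smul, mul_smul,
        show g⁻¹ • y = y from inv_smul_eq_iff.2 hgy.symm, hw'y, hgy]
    have hiso : ∀ {w w' : V}, tr w • y = y → tr w' • y = y → sf w' w = 1 → False := by
      intro w w' hwy hw'y h1
      have hw : w ≠ 0 := fun h => by rw [h, sf_zero_right] at h1; exact zero_ne_one h1
      rcases eq_zero_or_one hF (sf z w) with h | h
      swap
      · exact hz0 (hcl hw hwy hw'y h1 h)
      obtain ⟨p, hpz, hpw⟩ : ∃ p, sf p z = 1 ∧ sf p w = 1 := by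
        rcases eq_zero_or_one hF (sf f w) with h2 | h2
        · refine ⟨f + w', ?_, by rw [sf_add_left, h2, h1, zero_add]⟩
          rcases eq_zero_or_one hF (sf w' z) with h3 | h3
          · rw [sf_add_left, h3, add_zero, sf_comm hF, hf]
          · exact absurd (hcl (w := w') (w' := w) (fun h0 => by
              rw [h0, sf_zero_left] at h1; exact zero_ne_one h1) hw'y hwy
              (by rw [sf_comm hF, h1]) (by rw [sf_comm hF, h3])) hz0
        · exact ⟨f, by rw [sf_comm hF, hf], h2⟩
      have hpy := hcl hw hwy hw'y h1 hpw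
      exact hz0 (hcl (w := p) (w' := w) (fun h0 => by
        rw [h0, sf_zero_left] at hpz; exact zero_ne_one hpz) hpy hwy (by rw [sf_comm hF, hpw])
        (by rw [sf_comm hF, hpz]))
    -- the form of the pair at `z`
    have hnd := perp_nd hF hf
    obtain ⟨φ, hφ⟩ : ∃ φ : V → F, ∀ a, sf a z = 0 → el z a • y = tv z (φ a) • y := by
      choose φ hφ using fun a : {a : V // sf a z = 0} => hpair hz0 a.2
      exact ⟨fun a => if h : sf a z = 0 then φ ⟨a, h⟩ else 0, fun a ha => by simp only [dif_pos ha]; exact hφ ⟨a, ha⟩⟩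
    have hφadd : ∀ {a b : V}, sf a z = 0 → sf b z = 0 → φ (a + b) = φ a + φ b + sf a b := fun {a b} ha hb =>
      tv_unique hF hz0 ((hφ _ (by rw [sf_add_left, ha, hb, add_zero])).symm.trans
        (el_add_smul hF ha hb (hφ a ha) (hφ b hb)))
    obtain ⟨a, b, haW, hbW, hab, hφa⟩ : ∃ a b, a ∈ perp z f ∧ b ∈ perp z f ∧ sf a b = 1 ∧ φ a = 1 := by
      obtain ⟨c, hc0⟩ : ∃ c : perp z f, c ≠ 0 := by
        have h1 : 1 < Nat.card (perp z f) := by
          rw [hP hf, ← pow_add]; exact Nat.one_lt_two_pow (by omega)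
        haveI := Finite.one_lt_card_iff_nontrivial.1 h1
        exact exists_ne 0
      obtain ⟨d, hd, hd1⟩ := hnd c.1 c.2 fun h => hc0 (Subtype.ext h)
      have hdc : sf d c.1 = 1 := (eq_zero_or_one hF _).resolve_left hd1
      rcases eq_zero_or_one hF (φ c.1) with h | h
      · rcases eq_zero_or_one hF (φ d) with h' | h'
        · refine ⟨c.1 + d, d, (perp z f).add_mem c.2 hd, hd, ?_, ?_⟩
          · rw [sf_add_left, sf_self, add_zero, sf_comm hF, hdc]
          · rw [hφadd c.2.1 hd.1, h, h', sf_comm hF, hdc]; ring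
        · exact ⟨d, c.1, hd, c.2, hdc, h'⟩
      · exact ⟨c.1, d, c.2, hd, by rw [sf_comm hF, hdc], h⟩
    obtain ⟨c, hc0, hcW, hca, hcb⟩ : ∃ c, c ≠ 0 ∧ c ∈ perp z f ∧ sf c a = 0 ∧ sf c b = 0 := by
      let L : V →ₗ[F] (Fin 4 → F) := LinearMap.pi ![sfLin z, sfLin f, sfLin a, sfLin b]
      have hlt : Module.finrank F (Fin 4 → F) < Module.finrank F V := by simp; omega
      obtain ⟨c, hc, hc0⟩ :=
        Submodule.exists_mem_ne_zero_of_ne_bot (LinearMap.ker_ne_bot_of_finrank_lt (f := L) hlt)
      have h := LinearMap.mem_ker.1 hc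
      exact ⟨c, hc0, ⟨congrFun h 0, congrFun h 1⟩, congrFun h 2, congrFun h 3⟩
    obtain ⟨p, hp⟩ := exists_sf_eq_one hc0
    set p' := proj z f p with hp'
    set d := proj a b p' with hd
    have hdW : d ∈ perp z f := by
      rw [hd, proj]
      exact (perp z f).add_mem ((perp z f).add_mem (proj_mem hF hf p) ((perp z f).smul_mem _ haW))
        ((perp z f).smul_mem _ hbW)
    have hdab := proj_mem hF hab p'
    have hdc : sf d c = 1 := by
      rw [hd, sf_proj hF hab p' ⟨hca, hcb⟩, hp', sf_proj hF hf p hcW, hp]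
    -- a singular vector orthogonal to `a` gives a fixing vector
    have hsing : ∀ s ∈ perp z f, φ s = 0 → sf s a = 0 → tr s • y = y ∨ tr (z + s) • y = y := by
      intro s hs hφs hsa
      have has : sf a s = 0 := by rw [sf_comm hF, hsa]
      have hB : φ (a + s) = 1 := by rw [hφadd haW.1 hs.1, hφa, hφs, has]; ring
      have heq : ∀ u : V, sf u z = 0 → φ u = 1 → tr z • y = tr u • y ∧ tr u • y ≠ y ∧ u ≠ 0 := by
        intro u hu h1
        have e : el z u • y = tr z • y := by rw [hφ u hu, h1]
        have hzu : sf z u = 0 := by rw [sf_comm hF, hu]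
        have hu0 : u ≠ 0 := fun h => hz0 (by rw [← e, h, el_zero hF, one_smul])
        have hmu : tr u • y ≠ y := fun h => hz0 (by rw [← e, el_comm_arg hu, hfull hu0 h hzu])
        obtain ⟨k, hk⟩ := hpair hmu hzu
        rw [← el_comm_arg hu, e] at hk
        rcases eq_zero_or_one hF k with rfl | rfl
        · rw [tv_zero, one_smul] at hk; exact absurd hk hz0
        · exact ⟨hk, hmu, hu0⟩
      obtain ⟨ea, hma, -⟩ := heq a haW.1 hφa
      obtain ⟨eB, hmB, -⟩ := heq (a + s) (by rw [sf_add_left, (mem_perp.1 haW).1, (mem_perp.1 hs).1, add_zero]) hB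
      by_cases hsy : tr s • y = y
      · exact Or.inl hsy
      refine Or.inr ?_
      have hBa : sf (a + s) a = 0 := by rw [sf_add_left, sf_self, hsa, add_zero]
      have e1 : el a (a + s) • y = tr s • y := by
        rw [el, mul_smul, mul_smul, ← ea, eB, smul_smul (tr (a + s)) (tr (a + s)), tr_sq hF, one_smul,
          ← add_assoc, vec_add_self hF, zero_add]
      obtain ⟨k, hk⟩ := hpair hma hBa
      rw [e1] at hk
      rcases eq_zero_or_one hF k with rfl | rfl
      · rw [tv_zero, one_smul] at hk; exact absurd hk hsy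
      rw [← ea] at hk
      have e2 := hφ s hs.1
      rw [hφs, tv_zero, one_smul, el, mul_smul, mul_smul, smul_smul (tr s) (tr z),
        (tv_commute hs.1 1 1).eq, mul_smul, hk, smul_smul (tr z) (tr z), tr_sq hF, one_smul] at e2
      exact e2
    have hφ0 : φ 0 = 0 := by
      have h := hφadd (sf_zero_left z) (sf_zero_left z)
      rw [add_zero, sf_zero_left, add_zero] at h
      linear_combination (-1 : F) * h
    have hz : ∀ v ∈ perp z f, sf a v = 0 →
        φ (v + φ v • a) = 0 ∧ v + φ v • a ∈ perp z f ∧ sf (v + φ v • a) a = 0 := by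
      intro v hv hav
      have hva : sf v a = 0 := by rw [sf_comm hF, hav]
      refine ⟨?_, (perp z f).add_mem hv ((perp z f).smul_mem _ haW),
        by rw [sf_add_left, sf_smul_left, sf_self, hva]; ring⟩
      rcases eq_zero_or_one hF (φ v) with h | h <;> rw [h]
      · rw [zero_smul, add_zero, h]
      · rw [one_smul, hφadd hv.1 haW.1, h, hφa, hva, add_zero, add_self_eq hF]
    have hac : sf a c = 0 := by rw [sf_comm hF, hca]
    have had : sf a d = 0 := by rw [sf_comm hF]; exact hdab.1
    obtain ⟨h1, h1W, h1a⟩ := hz c hcW hac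
    obtain ⟨h2, h2W, h2a⟩ := hz d hdW had
    have hda : sf d a = 0 := (mem_perp.1 hdab).1
    have hcd : sf (d + φ d • a) (c + φ c • a) = 1 := by
      simp only [sf_add_left, sf_add_right, sf_smul_left, sf_smul_right, sf_self, hdc, hac, hda]
      ring
    have hzc : sf z (c + φ c • a) = 0 := by rw [sf_comm hF, (mem_perp.1 h1W).1]
    rcases hsing _ h1W h1 h1a with hA | hA <;> rcases hsing _ h2W h2 h2a with hB | hB
    · exact hiso hA hB hcd
    · exact hiso hA hB (by rw [sf_add_left, hzc, hcd, zero_add])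
    · exact hiso hA hB (by rw [sf_add_right, (mem_perp.1 h2W).1, hcd, zero_add])
    · exact hiso hA hB (by
        rw [sf_add_left, sf_add_right z z, sf_add_right (d + φ d • a) z, sf_self, hzc, (mem_perp.1 h2W).1,
          hcd]
        ring)
  -- counting
  have hz₁ : z₁ ≠ 0 := fun h => by rw [h, sf_zero_left] at hf₁; exact zero_ne_one hf₁
  obtain ⟨g, hg⟩ := exists_move hzne hz₁
  have hmv : tr z₁ • g • y ≠ g • y := by
    show tv z₁ 1 • g • y ≠ g • y
    rw [← hg, ← tv_conj g z 1, smul_smul, inv_mul_cancel_right, mul_smul, Ne, smul_left_cancel_iff]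
    exact hz0
  have hall : ∀ a ∈ perp z₁ f₁, a ∈ keep hF z₁ f₁ (g • y) := fun a ha =>
    (mem_keep hF).2 ⟨ha, hpair hmv ha.1⟩
  haveI : Fintype (perp z₁ f₁) := Fintype.ofFinite _
  obtain ⟨φ, hφ, hmoved⟩ := pair_bound hF hf₁ hmv hall
  obtain ⟨a, ha, hae⟩ := hk₁
  have hfixed := orbits_bound hF hf₁ (y := y₁) ⟨a, ha, fun h => by
      obtain ⟨-, c, hc⟩ := (mem_keep hF).1 h
      rcases eq_zero_or_one hF c with rfl | rfl
      · rw [tv_zero, one_smul] at hc; exact hae hc
      · exact hae (hc.trans hy₁)⟩ {0} fun c hc d hd _ => by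
    rw [Finset.mem_singleton] at hc hd; rw [hc, hd]
  rw [Finset.card_singleton, one_mul, hP hf₁] at hfixed
  simp only [hy₁, iff_true] at hfixed
  have hgs := gauss_sq hF (perp z₁ f₁) φ hφ (perp_nd hF hf₁)
  rw [sum_sgn, ← Nat.card_eq_fintype_card, hP hf₁] at hgs
  push_cast at hgs
  have hsq : |2 * ((Finset.univ.filter fun a => φ a = 0).card : ℤ) - 2 ^ (m - 1) * 2 ^ (m - 1)| =
      (2 : ℤ) ^ (m - 1) := by
    have h := (sq_eq_sq_iff_abs_eq_abs _ ((2 : ℤ) ^ (m - 1))).1 (hgs.trans (pow_two _).symm)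
    rwa [abs_of_pos (show (0 : ℤ) < 2 ^ (m - 1) by positivity)] at h
  have hge := (abs_le.1 (le_of_eq hsq)).1
  have htot := Finset.card_filter_add_card_filter_not (s := (Finset.univ : Finset X)) fun x => tr z₁ • x = x
  rw [Finset.card_univ] at htot
  have h2m : 2 ^ m = 2 * 2 ^ (m - 1) := by rw [← pow_succ', Nat.sub_add_cancel (by omega)]
  have hbd : 2 ^ (m - 1) * (2 ^ m - 1) + 2 ^ (m - 1) = 2 * (2 ^ (m - 1) * 2 ^ (m - 1)) := by
    rw [← Nat.mul_succ, Nat.succ_eq_add_one, Nat.sub_add_cancel (Nat.one_le_two_pow), h2m]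
    ring
  have hge' : 2 ^ (m - 1) * 2 ^ (m - 1) ≤
      2 * (Finset.univ.filter fun a => φ a = 0).card + 2 ^ (m - 1) := by
    zify
    linarith
  simp only [ne_eq] at hmoved
  omega

end CfsgLib.PGroup.SpTwoIndex
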