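import Cfsg.Agent.Lib.PGroup.SpTwoIndex.Basic

/-!
The orbits of the radical at a point on a set with an action.
-/

set_option autoImplicit false
set_option linter.unusedSectionVars false

namespace CfsgLib.PGroup.SpTwoIndex

open Matrix CfsgLib.Sp

variable {m : ℕ} {F : Type*} [Field F] [Fintype F] [DecidableEq F]

local notation "V" => (Fin m ⊕ Fin m → F)

/-- The orthogonal of a hyperbolic pair. -/
def perp (z f : Fin m ⊕ Fin m → F) : Submodule F (Fin m ⊕ Fin m → F) :=
  LinearMap.ker (sfLin z) ⊓ LinearMap.ker (sfLin f)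

theorem mem_perp {z f a : V} : a ∈ perp z f ↔ sf a z = 0 ∧ sf a f = 0 := Iff.rfl

/-- The projection to the orthogonal of a pair. -/
def proj (z f x : Fin m ⊕ Fin m → F) : Fin m ⊕ Fin m → F := x + sf x f • z + sf x z • f

variable (hF : Fintype.card F = 2) {z f : Fin m ⊕ Fin m → F} (hzf : sf z f = 1)
include hF hzf

theorem proj_mem (x : V) : proj z f x ∈ perp z f := by
  have hfz : sf f z = 1 := by rw [sf_comm hF, hzf]
  rw [mem_perp]
  simp only [proj, sf_add_left, sf_smul_left, sf_self, hzf, hfz]
  constructor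
  · linear_combination add_self_eq hF (sf x z)
  · linear_combination add_self_eq hF (sf x f)

theorem sf_proj (x : V) {w : V} (hw : w ∈ perp z f) : sf (proj z f x) w = sf x w := by
  rw [mem_perp] at hw
  simp [proj, sf_add_left, sf_smul_left, sf_comm hF z w, sf_comm hF f w, hw.1, hw.2]

theorem perp_nd : ∀ u ∈ perp z f, u ≠ 0 → ∃ v ∈ perp z f, sf v u ≠ 0 := by
  intro u hu hu0
  obtain ⟨v, hv⟩ := exists_sf_eq_one hu0
  exact ⟨proj z f v, proj_mem hF hzf v, by rw [sf_proj hF hzf v hu, hv]; exact one_ne_zero⟩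

theorem card_perp : Nat.card (perp z f) * 4 = 2 ^ (2 * m) := by
  classical
  have hfz : sf f z = 1 := by rw [sf_comm hF, hzf]
  let e : V ≃ (perp z f) × F × F :=
    { toFun := fun x => (⟨proj z f x, proj_mem hF hzf x⟩, sf x f, sf x z)
      invFun := fun p => p.1.1 + p.2.1 • z + p.2.2 • f
      left_inv := fun x => by
        show proj z f x + sf x f • z + sf x z • f = x
        have h1 := vec_add_self hF (sf x f • z)
        have h2 := vec_add_self hF (sf x z • f)
        calc proj z f x + sf x f • z + sf x z • f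
            = x + (sf x f • z + sf x f • z) + (sf x z • f + sf x z • f) := by simp only [proj]; abel
          _ = x := by rw [h1, h2, add_zero, add_zero]
      right_inv := fun ⟨a, s, t⟩ => by
        have ha := mem_perp.1 a.2
        have e1 : sf (a.1 + s • z + t • f) f = s := by
          simp [sf_add_left, sf_smul_left, sf_self, hzf, ha.2]
        have e2 : sf (a.1 + s • z + t • f) z = t := by
          simp [sf_add_left, sf_smul_left, sf_self, hfz, ha.1]
        refine Prod.ext (Subtype.ext ?_) (Prod.ext e1 e2)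
        show proj z f (a.1 + s • z + t • f) = a.1
        rw [proj, e1, e2]
        calc a.1 + s • z + t • f + s • z + t • f
            = a.1 + (s • z + s • z) + (t • f + t • f) := by abel
          _ = a.1 := by rw [vec_add_self hF, vec_add_self hF, add_zero, add_zero] }
  have h := Nat.card_congr e
  rw [Nat.card_fun, Nat.card_prod, Nat.card_prod, Nat.card_eq_fintype_card (α := F), hF,
    Nat.card_sum, Nat.card_eq_fintype_card, Fintype.card_fin] at h
  rw [show 2 * m = m + m by omega, h]

/-- The stabiliser of the pair moves any non-zero vector of its orthogonal to any other. -/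
theorem exists_move_perp {v w : V} (hv : v ∈ perp z f) (hw : w ∈ perp z f) (hv0 : v ≠ 0) (hw0 : w ≠ 0) :
    ∃ g : Matrix.symplecticGroup (Fin m) F, g.1 *ᵥ z = z ∧ g.1 *ᵥ f = f ∧ g.1 *ᵥ v = w := by
  have direct : ∀ {v w : V}, v ∈ perp z f → w ∈ perp z f → sf v w = 1 →
      ∃ g : Matrix.symplecticGroup (Fin m) F, g.1 *ᵥ z = z ∧ g.1 *ᵥ f = f ∧ g.1 *ᵥ v = w := by
    intro v w hv hw h
    have hu := mem_perp.1 ((perp z f).add_mem hv hw)
    refine ⟨tr (v + w), ?_, ?_, ?_⟩ <;> rw [tr_apply]
    · rw [sf_comm hF, hu.1, zero_smul, add_zero]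
    · rw [sf_comm hF, hu.2, zero_smul, add_zero]
    · rw [sf_add_right, sf_self, h, zero_add, one_smul, ← add_assoc, vec_add_self hF, zero_add]
  obtain ⟨x, hxv, hxw⟩ : ∃ x, sf x v = 1 ∧ sf x w = 1 := by
    obtain ⟨a, ha⟩ := exists_sf_eq_one hv0
    obtain ⟨b, hb⟩ := exists_sf_eq_one hw0
    rcases eq_zero_or_one hF (sf a w) with h1 | h1
    · rcases eq_zero_or_one hF (sf b v) with h2 | h2
      · exact ⟨a + b, by rw [sf_add_left, ha, h2, add_zero], by rw [sf_add_left, h1, hb, zero_add]⟩
      · exact ⟨b, h2, hb⟩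
    · exact ⟨a, ha, h1⟩
  obtain ⟨g, g1, g2, g3⟩ := direct hv (proj_mem hF hzf x)
    (by rw [sf_comm hF, sf_proj hF hzf x hv, hxv])
  obtain ⟨h, h1, h2, h3⟩ := direct (proj_mem hF hzf x) hw (by rw [sf_proj hF hzf x hw, hxw])
  exact ⟨h * g, by rw [sp_mul_mulVec, g1, h1], by rw [sp_mul_mulVec, g2, h2],
    by rw [sp_mul_mulVec, g3, h3]⟩

omit hzf

variable {X : Type*} [MulAction (Matrix.symplecticGroup (Fin m) F) X]

theorem el_el {a b : V} (ha : sf a z = 0) (hb : sf b z = 0) : el z a * el z b = el z b * el z a := by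
  rw [el_mul hF ha hb, el_mul hF hb ha, add_comm, sf_comm hF a b]

theorem el_add_smul {y : X} {a b : V} {c d : F} (ha : sf a z = 0) (hb : sf b z = 0)
    (h1 : el z a • y = tv z c • y) (h2 : el z b • y = tv z d • y) :
    el z (a + b) • y = tv z (c + d + sf a b) • y := by
  have hab : sf (a + b) z = 0 := by rw [sf_add_left, ha, hb, add_zero]
  have h := congrArg (fun g => g • y) (el_mul hF ha hb)
  simp only [mul_smul, h2] at h
  rw [smul_smul, (el_comm_tv hF ha d).eq, mul_smul, h1, smul_smul, tv_mul, smul_smul,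
    (el_comm_tv hF hab _).eq, mul_smul] at h
  have h' := congrArg (fun x => tv z (sf b a) • x) h
  simp only [smul_smul, tv_mul, add_self_eq hF, tv_zero, one_mul] at h'
  rw [← mul_assoc, tv_mul, add_self_eq hF, tv_zero, one_mul] at h'
  rw [← h', sf_comm hF a b]
  congr 2
  ring

/-- The parameters keeping `y` among its images under the transvections at `z`. -/
def keep (z f : Fin m ⊕ Fin m → F) (y : X) : Submodule F (Fin m ⊕ Fin m → F) where
  carrier := {a | a ∈ perp z f ∧ ∃ c : F, el z a • y = tv z c • y}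
  add_mem' := fun {a b} ⟨ha, c, h1⟩ ⟨hb, d, h2⟩ =>
    ⟨(perp z f).add_mem ha hb, _, el_add_smul hF ha.1 hb.1 h1 h2⟩
  zero_mem' := ⟨(perp z f).zero_mem, 0, by rw [el_zero hF, tv_zero]⟩
  smul_mem' := fun c a ha => by
    rcases scalar_cases hF c a with h | h <;> rw [h]
    · exact ⟨(perp z f).zero_mem, 0, by rw [el_zero hF, tv_zero]⟩
    · exact ha

theorem mem_keep {y : X} {a : V} :
    a ∈ keep hF z f y ↔ a ∈ perp z f ∧ ∃ c : F, el z a • y = tv z c • y := Iff.rfl

theorem keep_shift {a : V} (ha : sf a z = 0) (c : F) (y : X) :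
    keep hF z f (el z a • tv z c • y) = keep hF z f y := by
  ext b
  simp only [mem_keep]
  refine and_congr_right fun hb => exists_congr fun d => ?_
  rw [smul_smul, el_el hF hb.1 ha, mul_smul, smul_smul (el z b), (el_comm_tv hF hb.1 c).eq, mul_smul,
    smul_smul (tv z d) (el z a), ← (el_comm_tv hF ha d).eq, mul_smul, smul_smul (tv z d) (tv z c), tv_mul,
    add_comm d c, ← tv_mul, mul_smul, smul_left_cancel_iff, smul_left_cancel_iff]

theorem mem_keep_map (g : Matrix.symplecticGroup (Fin m) F) (hgz : g.1 *ᵥ z = z) (hgf : g.1 *ᵥ f = f)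
    {y : X} {a : V} : g.1 *ᵥ a ∈ keep hF z f (g • y) ↔ a ∈ keep hF z f y := by
  have hperp : g.1 *ᵥ a ∈ perp z f ↔ a ∈ perp z f := by
    rw [mem_perp, mem_perp]
    conv_lhs => rw [← hgz, ← hgf, sf_sp, sf_sp]
  simp only [mem_keep]
  refine and_congr hperp (exists_congr fun c => ?_)
  have e1 : el z (g.1 *ᵥ a) • g • y = g • el z a • y := by
    rw [smul_smul, smul_smul]
    congr 1
    have := el_conj g z a
    rw [hgz] at this
    rw [← this, inv_mul_cancel_right]
  have e2 : tv z c • g • y = g • tv z c • y := by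
    rw [smul_smul, smul_smul]
    congr 1
    have := tv_conj g z c
    rw [hgz] at this
    conv_lhs => rw [← this, inv_mul_cancel_right]
  rw [e1, e2, smul_left_cancel_iff]

include hzf

/-- An orbit with a proper subspace of kept parameters forces many points. -/
theorem orbits_bound [Fintype X] [DecidableEq X] {y : X} (hy : ∃ a ∈ perp z f, a ∉ keep hF z f y)
    (T : Finset F) (hT : ∀ c ∈ T, ∀ d ∈ T, tv z c • y = tv z d • y → c = d) :
    T.card * Nat.card (perp z f) ≤
      (Finset.univ.filter fun x : X => tr z • x = x ↔ tr z • y = y).card := by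
  classical
  haveI : Fintype (perp z f) := Fintype.ofFinite _
  have hnd := perp_nd hF hzf
  have hle : ∀ x : X, keep hF z f x ≤ perp z f := fun x a ha => ha.1
  -- a non-zero vector orthogonal to the kept parameters
  obtain ⟨v₀, hv₀, hv₀0, hv₀U⟩ : ∃ v ∈ perp z f, v ≠ 0 ∧ ∀ u ∈ keep hF z f y, sf u v = 0 := by
    by_contra hcon
    simp only [not_exists, not_and] at hcon
    have h := card_mul_card_orth hF _ _ (hle y) hnd
    have h1 : Nat.card {v : perp z f // ∀ u ∈ keep hF z f y, sf u v.1 = 0} = 1 := by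
      rw [Nat.card_eq_one_iff_unique]
      refine ⟨⟨fun a b => ?_⟩, ⟨⟨0, fun u _ => sf_zero_right u⟩⟩⟩
      have : ∀ v : {v : perp z f // ∀ u ∈ keep hF z f y, sf u v.1 = 0}, v.1.1 = 0 := fun v => by
        by_contra h0
        exact hcon _ v.1.2 h0 v.2
      exact Subtype.ext (Subtype.ext ((this a).trans (this b).symm))
    rw [h1, one_mul] at h
    obtain ⟨a, ha, hna⟩ := hy
    have hlt : keep hF z f y < perp z f := lt_of_le_of_ne (hle y) fun e => hna (e ▸ ha)
    have := Submodule.finrank_lt_finrank_of_lt hlt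
    have e1 : Nat.card (keep hF z f y) = Nat.card F ^ Module.finrank F (keep hF z f y) :=
      Module.natCard_eq_pow_finrank
    have e2 : Nat.card (perp z f) = Nat.card F ^ Module.finrank F (perp z f) := Module.natCard_eq_pow_finrank
    rw [e1, e2] at h
    have hF1 : 1 < Nat.card F := by rw [Nat.card_eq_fintype_card, hF]; norm_num
    have := Nat.pow_right_injective hF1 h
    omega
  -- one point for each vector
  have hg : ∀ v : perp z f, ∃ g : Matrix.symplecticGroup (Fin m) F, g.1 *ᵥ z = z ∧ g.1 *ᵥ f = f ∧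
      ∀ u ∈ keep hF z f (g • y), sf u v.1 = 0 := by
    intro v
    rcases eq_or_ne v.1 0 with h0 | h0
    · exact ⟨1, sp_one_mulVec z, sp_one_mulVec f, fun u _ => by rw [h0, sf_zero_right]⟩
    obtain ⟨g, g1, g2, g3⟩ := exists_move_perp hF hzf hv₀ v.2 hv₀0 h0
    refine ⟨g, g1, g2, fun u hu => ?_⟩
    obtain ⟨u', rfl⟩ : ∃ u', g.1 *ᵥ u' = u := ⟨_, sp_mulVec_inv g u⟩
    rw [mem_keep_map hF g g1 g2] at hu
    rw [← g3, sf_sp]
    exact hv₀U _ hu
  choose g g1 g2 g3 using hg
  let 𝒰 : Finset (Submodule F V) := Finset.univ.image fun v => keep hF z f (g v • y)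
  let O : X → Finset X := fun x =>
    (Finset.univ ×ˢ T).image fun p : perp z f × F => el z p.1.1 • tv z p.2 • x
  have hrep : ∀ U ∈ 𝒰, ∃ v, keep hF z f (g v • y) = U := fun U hU => by
    simpa [𝒰] using hU
  choose! rep hrep' using hrep
  -- the orbits are large
  have hbig : ∀ U ∈ 𝒰, T.card * Nat.card {v : perp z f // ∀ u ∈ U, sf u v.1 = 0} ≤
      (O (g (rep U) • y)).card := by
    intro U hU
    set x := g (rep U) • y with hx
    have hxU : keep hF z f x = U := hrep' U hU
    have hTx : ∀ c ∈ T, ∀ d ∈ T, tv z c • x = tv z d • x → c = d := by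
      intro c hc d hd h
      have e : ∀ c, tv z c • x = g (rep U) • tv z c • y := fun c => by
        rw [hx, smul_smul, smul_smul]
        congr 1
        have := tv_conj (g (rep U)) z c
        rw [g1] at this
        conv_lhs => rw [← this, inv_mul_cancel_right]
      rw [e, e, smul_left_cancel_iff] at h
      exact hT c hc d hd h
    clear_value x
    have hUW : U ≤ perp z f := hxU ▸ hle x
    have h := card_mul_card_orth hF U (perp z f) hUW hnd
    have key : T.card * Fintype.card (perp z f) ≤ (O x).card * Nat.card U := by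
      let pick : X → perp z f := fun p =>
        if h : ∃ q : perp z f × F, q.2 ∈ T ∧ el z q.1.1 • tv z q.2 • x = p then h.choose.1 else 0
      have hpick : ∀ (a : perp z f) (c : F), c ∈ T →
          a.1 + (pick (el z a.1 • tv z c • x)).1 ∈ U := by
        intro a c hc
        have hex : ∃ q : perp z f × F, q.2 ∈ T ∧ el z q.1.1 • tv z q.2 • x = el z a.1 • tv z c • x :=
          ⟨(a, c), hc, rfl⟩
        simp only [pick, dif_pos hex]
        generalize hq : hex.choose = q
        have hqs := hex.choose_spec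
        rw [hq] at hqs
        obtain ⟨b, d⟩ := q
        rw [← hxU, mem_keep]
        refine ⟨(perp z f).add_mem a.2 b.2, c + d + sf b.1 a.1, ?_⟩
        have e : el z b.1 • el z b.1 • tv z d • x = el z b.1 • el z a.1 • tv z c • x := by rw [hqs.2]
        have hbb : el z b.1 * el z b.1 = 1 := by
          rw [el_mul hF b.2.1 b.2.1, sf_self, tv_zero, mul_one, vec_add_self hF, el_zero hF]
        rw [smul_smul (el z b.1) (el z b.1), hbb, one_smul, smul_smul (el z b.1) (el z a.1),
          el_mul hF b.2.1 a.2.1, mul_smul, smul_smul (tv z (sf a.1 b.1)) (tv z c), tv_mul, smul_smul,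
          (el_comm_tv hF ((perp z f).add_mem b.2 a.2).1 _).eq, mul_smul] at e
        rw [add_comm a.1 b.1]
        have e' := congrArg (fun p => tv z (sf a.1 b.1 + c) • p) e
        simp only [smul_smul, ← mul_assoc, tv_mul, add_self_eq hF, tv_zero, one_mul] at e'
        rw [← e', sf_comm hF a.1 b.1]
        congr 2
        ring
      have hc : ((Finset.univ ×ˢ T : Finset (perp z f × F))).card ≤
          ((O x) ×ˢ (Finset.univ : Finset (perp z f)).filter fun u => u.1 ∈ U).card := by
        refine Finset.card_le_card_of_injOn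
          (fun q => (el z q.1.1 • tv z q.2 • x, q.1 + pick (el z q.1.1 • tv z q.2 • x))) ?_ ?_
        · rintro ⟨a, c⟩ hq
          rw [Finset.mem_coe, Finset.mem_product] at hq
          rw [Finset.mem_coe, Finset.mem_product, Finset.mem_filter]
          exact ⟨Finset.mem_image.2 ⟨(a, c), Finset.mem_product.2 ⟨Finset.mem_univ _, hq.2⟩, rfl⟩,
            Finset.mem_univ _, hpick a c hq.2⟩
        · rintro ⟨a, c⟩ hq ⟨b, d⟩ hq' he
          rw [Finset.mem_coe, Finset.mem_product] at hq hq'
          obtain ⟨h1, h2⟩ := Prod.mk.inj he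
          dsimp only at h1 h2
          rw [h1] at h2
          obtain rfl := add_right_cancel h2
          rw [smul_left_cancel_iff] at h1
          rw [hTx c hq.2 d hq'.2 h1]
      rw [Finset.card_product, Finset.card_product, Finset.card_univ, mul_comm] at hc
      refine hc.trans (Nat.mul_le_mul_left _ ?_)
      rw [← Fintype.card_subtype, ← Nat.card_eq_fintype_card]
      exact Nat.card_le_card_of_injective
        (fun u : {u : perp z f // u.1 ∈ U} => (⟨u.1.1, u.2⟩ : U))
        fun u v huv => Subtype.ext (Subtype.ext (congrArg Subtype.val huv :))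
    rw [← Nat.card_eq_fintype_card, ← h, ← mul_assoc] at key
    exact Nat.le_of_mul_le_mul_right key Nat.card_pos
  -- they cover and are disjoint
  have hcover : Nat.card (perp z f) ≤ ∑ U ∈ 𝒰, Nat.card {v : perp z f // ∀ u ∈ U, sf u v.1 = 0} := by
    rw [Nat.card_eq_fintype_card, ← Finset.card_univ]
    simp only [Nat.card_eq_fintype_card, Fintype.card_subtype]
    refine le_trans (Finset.card_le_card fun v _ => ?_) Finset.card_biUnion_le
    rw [Finset.mem_biUnion]
    exact ⟨keep hF z f (g v • y), Finset.mem_image.2 ⟨v, Finset.mem_univ _, rfl⟩,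
      Finset.mem_filter.2 ⟨Finset.mem_univ _, g3 v⟩⟩
  have hkeep : ∀ x, ∀ p ∈ O x, keep hF z f p = keep hF z f x := by
    intro x p hp
    obtain ⟨⟨a, c⟩, -, rfl⟩ := Finset.mem_image.1 hp
    exact keep_shift hF a.2.1 c x
  have hdisj : (𝒰 : Set (Submodule F V)).PairwiseDisjoint fun U => O (g (rep U) • y) := by
    intro U hU U' hU' hne
    rw [Function.onFun, Finset.disjoint_left]
    intro p hp hp'
    exact hne (by rw [← hrep' U hU, ← hrep' U' hU', ← hkeep _ p hp, ← hkeep _ p hp'])
  calc T.card * Nat.card (perp z f)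
      ≤ T.card * ∑ U ∈ 𝒰, Nat.card {v : perp z f // ∀ u ∈ U, sf u v.1 = 0} := Nat.mul_le_mul_left _ hcover
    _ = ∑ U ∈ 𝒰, T.card * Nat.card {v : perp z f // ∀ u ∈ U, sf u v.1 = 0} := Finset.mul_sum _ _ _
    _ ≤ ∑ U ∈ 𝒰, (O (g (rep U) • y)).card := Finset.sum_le_sum hbig
    _ = (𝒰.biUnion fun U => O (g (rep U) • y)).card := (Finset.card_biUnion hdisj).symm
    _ ≤ _ := Finset.card_le_card fun p hp => by
      obtain ⟨U, -, hpU⟩ := Finset.mem_biUnion.1 hp
      obtain ⟨⟨a, c⟩, -, rfl⟩ := Finset.mem_image.1 hpU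
      rw [Finset.mem_filter]
      refine ⟨Finset.mem_univ _, ?_⟩
      have hcm : Commute (tr z) (el z a.1 * (tv z c * g (rep U))) := by
        refine ((el_comm_tv hF a.2.1 1).symm.mul_right ((tv_commute (sf_self z) 1 c).mul_right ?_))
        have := tv_conj (g (rep U)) z 1
        rw [g1] at this
        exact (mul_inv_eq_iff_eq_mul.1 this).symm
      rw [show el z a.1 • tv z c • g (rep U) • y = (el z a.1 * (tv z c * g (rep U))) • y by
        rw [mul_smul, mul_smul], smul_smul, hcm.eq, mul_smul, smul_left_cancel_iff]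

end CfsgLib.PGroup.SpTwoIndex
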